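import Mathlib

/-!
# Units on tori over integral schemes
-/

set_option autoImplicit false
set_option linter.style.haveILetI false
set_option backward.isDefEq.respectTransparency false

universe u

open CategoryTheory CategoryTheory.Limits AlgebraicGeometry Opposite

noncomputable section

namespace Groth.Agent.TorusUnits

/-- Units of group rings of groups with two unique sums over domains are monomials. -/
theorem exists_single_of_isUnit {R G : Type*} [CommRing R] [IsDomain R] [AddCommGroup G]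
    [TwoUniqueSums G] {x : AddMonoidAlgebra R G} (hx : IsUnit x) :
    ∃ (e : G) (r : R), IsUnit r ∧ x = AddMonoidAlgebra.single e r := by
  classical
  obtain ⟨y, hxy⟩ := isUnit_iff_exists_inv.mp hx
  have hx0 : x.coeff.support.Nonempty := by
    rw [Finsupp.support_nonempty_iff]
    intro h
    have : x = 0 := AddMonoidAlgebra.coeff_injective (h.trans AddMonoidAlgebra.coeff_zero.symm)
    rw [this, zero_mul] at hxy
    exact zero_ne_one hxy
  have hy0 : y.coeff.support.Nonempty := by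
    rw [Finsupp.support_nonempty_iff]
    intro h
    have : y = 0 := AddMonoidAlgebra.coeff_injective (h.trans AddMonoidAlgebra.coeff_zero.symm)
    rw [this, mul_zero] at hxy
    exact zero_ne_one hxy
  have hcard : x.coeff.support.card * y.coeff.support.card ≤ 1 := by
    by_contra h
    obtain ⟨p1, hp1, p2, hp2, hne, hu1, hu2⟩ := TwoUniqueSums.uniqueAdd_of_one_lt_card (not_le.mp h)
    rw [Finset.mem_product] at hp1 hp2
    have e1 : (x * y).coeff (p1.1 + p1.2) ≠ 0 := by
      rw [AddMonoidAlgebra.coeff_mul_add_of_uniqueAdd hu1]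
      exact mul_ne_zero (Finsupp.mem_support_iff.mp hp1.1) (Finsupp.mem_support_iff.mp hp1.2)
    have e2 : (x * y).coeff (p2.1 + p2.2) ≠ 0 := by
      rw [AddMonoidAlgebra.coeff_mul_add_of_uniqueAdd hu2]
      exact mul_ne_zero (Finsupp.mem_support_iff.mp hp2.1) (Finsupp.mem_support_iff.mp hp2.2)
    rw [hxy, AddMonoidAlgebra.one_def, AddMonoidAlgebra.coeff_single] at e1 e2
    have z1 : p1.1 + p1.2 = 0 := by
      by_contra hz; exact e1 (Finsupp.single_eq_of_ne hz)
    have z2 : p2.1 + p2.2 = 0 := by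
      by_contra hz; exact e2 (Finsupp.single_eq_of_ne hz)
    obtain ⟨ha, hb⟩ := hu1 hp2.1 hp2.2 (z2.trans z1.symm)
    exact hne (Prod.ext ha.symm hb.symm)
  have h1 : x.coeff.support.card = 1 :=
    le_antisymm ((Nat.le_mul_of_pos_right _ hy0.card_pos).trans hcard) hx0.card_pos
  have h2 : y.coeff.support.card = 1 :=
    le_antisymm ((Nat.le_mul_of_pos_left _ hx0.card_pos).trans hcard) hy0.card_pos
  obtain ⟨a, ha, hxa⟩ := Finsupp.card_support_eq_one.mp h1
  obtain ⟨b, hb, hyb⟩ := Finsupp.card_support_eq_one.mp h2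
  have hx' : x = AddMonoidAlgebra.single a (x.coeff a) :=
    AddMonoidAlgebra.coeff_injective (hxa.trans (AddMonoidAlgebra.coeff_single a _).symm)
  have hy' : y = AddMonoidAlgebra.single b (y.coeff b) :=
    AddMonoidAlgebra.coeff_injective (hyb.trans (AddMonoidAlgebra.coeff_single b _).symm)
  refine ⟨a, x.coeff a, isUnit_iff_exists_inv.mpr ⟨y.coeff b, ?_⟩, hx'⟩
  rw [hx', hy', AddMonoidAlgebra.single_mul_single, AddMonoidAlgebra.one_def] at hxy
  have h3 := congrArg (fun z : AddMonoidAlgebra R G => z.coeff 0) hxy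
  simp only [AddMonoidAlgebra.coeff_single] at h3
  by_cases hab : a + b = 0
  · rw [hab, Finsupp.single_eq_same, Finsupp.single_eq_same] at h3
    exact h3
  · rw [Finsupp.single_eq_same, Finsupp.single_eq_of_ne (Ne.symm hab)] at h3
    exact absurd h3 zero_ne_one

section

variable (G : Type) [AddCommGroup G]

/-- The coordinate ring of the torus. -/
abbrev L : CommRingCat.{u} := CommRingCat.of (ULift.{u} (AddMonoidAlgebra ℤ G))

/-- The coefficient inclusion. -/
def coef (R : CommRingCat.{u}) : R ⟶ CommRingCat.of (AddMonoidAlgebra R G) :=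
  CommRingCat.ofHom AddMonoidAlgebra.singleZeroRingHom

/-- The map from the integral group ring. -/
def expo (R : CommRingCat.{u}) : L G ⟶ CommRingCat.of (AddMonoidAlgebra R G) :=
  CommRingCat.ofHom ((AddMonoidAlgebra.mapRingHom G (Int.castRingHom R)).comp
    (ULift.ringEquiv : ULift.{u} (AddMonoidAlgebra ℤ G) ≃+* AddMonoidAlgebra ℤ G).toRingHom)

theorem coef_apply (R : CommRingCat.{u}) (r : R) :
    (coef G R).hom r = AddMonoidAlgebra.single 0 r := rfl

theorem expo_single (R : CommRingCat.{u}) (m : G) :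
    (expo G R).hom (ULift.up (AddMonoidAlgebra.single m 1)) = AddMonoidAlgebra.single m 1 := by
  show AddMonoidAlgebra.mapRingHom G (Int.castRingHom R) (AddMonoidAlgebra.single m 1) = _
  simp

theorem isPushout (R : CommRingCat.{u})
    (f : CommRingCat.of (ULift.{u} ℤ) ⟶ L G) (g : CommRingCat.of (ULift.{u} ℤ) ⟶ R) :
    IsPushout f g (expo G R) (coef G R) := by
  have huniq : ∀ {S : CommRingCat.{u}} (a b : CommRingCat.of (ULift.{u} ℤ) ⟶ S), a = b := fun a b => by
    refine CommRingCat.hom_ext (RingHom.ext fun z => ?_)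
    obtain ⟨z⟩ := z
    exact RingHom.congr_fun
      (Subsingleton.elim (a.hom.comp ULift.ringEquiv.symm.toRingHom)
        (b.hom.comp ULift.ringEquiv.symm.toRingHom) : _ = _) z
  refine IsPushout.of_isColimit' ⟨huniq _ _⟩ ?_
  refine PushoutCocone.isColimitAux' _ fun s => ?_
  let mon : Multiplicative G →* s.pt :=
    { toFun := fun m => s.inl.hom (ULift.up (AddMonoidAlgebra.single m.toAdd 1))
      map_one' := by
        rw [← map_one s.inl.hom]
        rfl
      map_mul' := fun a b => by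
        rw [← map_mul]
        congr 1
        refine ULift.ext _ _ ?_
        show AddMonoidAlgebra.single (a.toAdd + b.toAdd) (1 : ℤ) =
          AddMonoidAlgebra.single a.toAdd 1 * AddMonoidAlgebra.single b.toAdd 1
        rw [AddMonoidAlgebra.single_mul_single, one_mul] }
  let l : AddMonoidAlgebra R G →+* s.pt :=
    AddMonoidAlgebra.liftNCRingHom s.inr.hom mon fun _ _ => Commute.all _ _
  have hl : ∀ (m : G) (r : R), l (AddMonoidAlgebra.single m r) =
      s.inr.hom r * s.inl.hom (ULift.up (AddMonoidAlgebra.single m 1)) :=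
    fun m r => AddMonoidAlgebra.liftNC_single _ _ m r
  refine ⟨CommRingCat.ofHom l, ?_, ?_, fun {m} h1 h2 => ?_⟩
  · show expo G R ≫ CommRingCat.ofHom l = s.inl
    refine CommRingCat.hom_ext ?_
    have : ((expo G R ≫ CommRingCat.ofHom l).hom.comp ULift.ringEquiv.symm.toRingHom :
        AddMonoidAlgebra ℤ G →+* s.pt) = s.inl.hom.comp ULift.ringEquiv.symm.toRingHom := by
      refine AddMonoidAlgebra.ringHom_ext' (Subsingleton.elim _ _) ?_
      refine MonoidHom.ext fun m => ?_
      show l ((expo G R).hom (ULift.up (AddMonoidAlgebra.single m.toAdd 1))) = _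
      rw [expo_single, hl, map_one, one_mul]
      rfl
    refine RingHom.ext fun x => ?_
    obtain ⟨x⟩ := x
    exact RingHom.congr_fun this x
  · show coef G R ≫ CommRingCat.ofHom l = s.inr
    refine CommRingCat.hom_ext (RingHom.ext fun r => ?_)
    show l ((coef G R).hom r) = _
    rw [coef_apply, hl]
    exact (congrArg (s.inr.hom r * ·) (map_one s.inl.hom)).trans (mul_one _)
  · refine CommRingCat.hom_ext (AddMonoidAlgebra.ringHom_ext (fun r => ?_) fun e => ?_)
    · show m.hom ((coef G R).hom r) = l (AddMonoidAlgebra.single 0 r)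
      rw [hl]
      refine (RingHom.congr_fun (congrArg CommRingCat.Hom.hom h2) r).trans ?_
      exact ((congrArg (s.inr.hom r * ·) (map_one s.inl.hom)).trans (mul_one _)).symm
    · show m.hom (AddMonoidAlgebra.single e 1) = l (AddMonoidAlgebra.single e 1)
      rw [hl, map_one, one_mul, ← expo_single]
      exact RingHom.congr_fun (congrArg CommRingCat.Hom.hom h1) _

variable {X : Scheme.{u}}

/-- The chart of the torus over an affine open. -/
def chart {U : X.Opens} (hU : IsAffineOpen U) :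
    Spec (CommRingCat.of (AddMonoidAlgebra Γ(X, U) G)) ⟶ X ⨯ Spec (L G) :=
  prod.lift (Spec.map (coef G Γ(X, U)) ≫ hU.fromSpec) (Spec.map (expo G Γ(X, U)))

theorem isPullback_chart {U : X.Opens} (hU : IsAffineOpen U) :
    IsPullback (chart G hU) (Spec.map (coef G Γ(X, U))) prod.fst hU.fromSpec := by
  have right : IsPullback (prod.snd : X ⨯ Spec (L G) ⟶ Spec (L G)) prod.fst
      (specULiftZIsTerminal.from _) (specULiftZIsTerminal.from _) :=
    (IsPullback.of_isLimit_binaryFan_of_isTerminal (prodIsProd X (Spec (L G))) specULiftZIsTerminal).flip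
  have outer : IsPullback (Spec.map (expo G Γ(X, U))) (Spec.map (coef G Γ(X, U)))
      (specULiftZIsTerminal.from (Spec (L G))) (hU.fromSpec ≫ specULiftZIsTerminal.from X) := by
    let f : CommRingCat.of (ULift.{u} ℤ) ⟶ L G := Spec.preimage (specULiftZIsTerminal.from _)
    let g : CommRingCat.of (ULift.{u} ℤ) ⟶ Γ(X, U) :=
      Spec.preimage (hU.fromSpec ≫ specULiftZIsTerminal.from X)
    have := isPullback_SpecMap_of_isPushout f g _ _ (isPushout G Γ(X, U) f g)
    rwa [Spec.map_preimage, Spec.map_preimage] at this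
  have hs : chart G hU ≫ prod.snd = Spec.map (expo G Γ(X, U)) := prod.lift_snd _ _
  rw [← hs] at outer
  exact IsPullback.of_right outer (prod.lift_fst _ _) right

theorem exists_chart_preimage {U : X.Opens} (hU : IsAffineOpen U) (z : (X ⨯ Spec (L G) : Scheme.{u}))
    (hz : (prod.fst : X ⨯ Spec (L G) ⟶ X) z ∈ U) : ∃ q, chart G hU q = z := by
  rw [← SetLike.mem_coe, ← hU.range_fromSpec] at hz
  obtain ⟨y, hy⟩ := hz
  obtain ⟨q, hq, -⟩ := Scheme.exists_preimage_of_isPullback (isPullback_chart G hU) z y hy.symm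
  exact ⟨q, hq⟩

instance isOpenImmersion_chart {U : X.Opens} (hU : IsAffineOpen U) : IsOpenImmersion (chart G hU) :=
  MorphismProperty.of_isPullback (isPullback_chart G hU).flip inferInstance

/-- Restriction of functions on the torus to a chart. -/
def res {U : X.Opens} (hU : IsAffineOpen U) :
    Γ(X ⨯ Spec (L G), ⊤) →+* AddMonoidAlgebra Γ(X, U) G :=
  ((chart G hU).appTop ≫ (Scheme.ΓSpecIso _).hom).hom

theorem res_fst {U : X.Opens} (hU : IsAffineOpen U) (u : Γ(X, ⊤)) :
    res G hU ((prod.fst : X ⨯ Spec (L G) ⟶ X).appTop u) =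
      AddMonoidAlgebra.single 0 ((X.presheaf.map (homOfLE (le_top : U ≤ ⊤)).op).hom u) := by
  show (((prod.fst : X ⨯ Spec (L G) ⟶ X).appTop ≫ (chart G hU).appTop ≫
    (Scheme.ΓSpecIso _).hom).hom u) = _
  rw [← Category.assoc, ← Scheme.Hom.comp_appTop, show chart G hU ≫ prod.fst = _ from prod.lift_fst _ _,
    Scheme.Hom.comp_appTop, Category.assoc, Scheme.ΓSpecIso_naturality]
  have e : hU.fromSpec.appTop ≫ (Scheme.ΓSpecIso Γ(X, U)).hom =
      X.presheaf.map (homOfLE (le_top : U ≤ ⊤)).op := by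
    rw [Scheme.Hom.appTop, hU.fromSpec_app_of_le ⊤ le_top, Category.assoc, Category.assoc,
      show (homOfLE le_top : (⊤ : (Spec Γ(X, U)).Opens) ⟶ ⊤) = 𝟙 _ from Subsingleton.elim _ _]
    erw [op_id, CategoryTheory.Functor.map_id]
    simp
  rw [← Category.assoc, e]
  rfl

theorem res_snd {U : X.Opens} (hU : IsAffineOpen U) (e : G) :
    res G hU ((prod.snd : X ⨯ Spec (L G) ⟶ Spec (L G)).appTop
      ((Scheme.ΓSpecIso (L G)).inv (ULift.up (AddMonoidAlgebra.single e 1)))) =
      AddMonoidAlgebra.single e 1 := by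
  show (((Scheme.ΓSpecIso (L G)).inv ≫ (prod.snd : X ⨯ Spec (L G) ⟶ Spec (L G)).appTop ≫
    (chart G hU).appTop ≫ (Scheme.ΓSpecIso _).hom).hom (ULift.up (AddMonoidAlgebra.single e 1))) = _
  rw [← Category.assoc (prod.snd : X ⨯ Spec (L G) ⟶ Spec (L G)).appTop, ← Scheme.Hom.comp_appTop,
    show chart G hU ≫ prod.snd = _ from prod.lift_snd _ _, Scheme.ΓSpecIso_naturality,
    Iso.inv_hom_id_assoc]
  exact expo_single G _ e

theorem res_mono {U V : X.Opens} (hU : IsAffineOpen U) (hV : IsAffineOpen V) (h : V ≤ U)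
    (v : Γ(X ⨯ Spec (L G), ⊤)) :
    res G hV v = AddMonoidAlgebra.mapRingHom G (X.presheaf.map (homOfLE h).op).hom (res G hU v) := by
  let r : Γ(X, U) ⟶ Γ(X, V) := X.presheaf.map (homOfLE h).op
  let m : CommRingCat.of (AddMonoidAlgebra Γ(X, U) G) ⟶ CommRingCat.of (AddMonoidAlgebra Γ(X, V) G) :=
    CommRingCat.ofHom (AddMonoidAlgebra.mapRingHom G r.hom)
  have key : Spec.map m ≫ chart G hU = chart G hV := by
    have e1 : coef G Γ(X, U) ≫ m = r ≫ coef G Γ(X, V) := by
      refine CommRingCat.hom_ext (RingHom.ext fun x => ?_)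
      show AddMonoidAlgebra.mapRingHom G r.hom (AddMonoidAlgebra.single 0 x) = AddMonoidAlgebra.single 0 (r.hom x)
      simp
    have e2 : expo G Γ(X, U) ≫ m = expo G Γ(X, V) := by
      refine CommRingCat.hom_ext (RingHom.ext fun x => ?_)
      obtain ⟨x⟩ := x
      refine RingHom.congr_fun (?_ : (AddMonoidAlgebra.mapRingHom G r.hom).comp
        (AddMonoidAlgebra.mapRingHom G (Int.castRingHom Γ(X, U))) =
          AddMonoidAlgebra.mapRingHom G (Int.castRingHom Γ(X, V))) x
      exact AddMonoidAlgebra.ringHom_ext (fun r' => by simp) (fun a => by simp)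
    refine prod.hom_ext ?_ ?_
    · rw [Category.assoc, chart, chart, prod.lift_fst, prod.lift_fst, ← Spec.map_comp_assoc, e1,
        Spec.map_comp_assoc, IsAffineOpen.map_fromSpec hU hV]
    · rw [Category.assoc, chart, chart, prod.lift_snd, prod.lift_snd, ← Spec.map_comp, e2]
  show (((chart G hV).appTop ≫ (Scheme.ΓSpecIso _).hom).hom v) = _
  rw [← key, Scheme.Hom.comp_appTop, Category.assoc, Scheme.ΓSpecIso_naturality]
  rfl

theorem eq_of_res {v w : Γ(X ⨯ Spec (L G), ⊤)}
    (h : ∀ (U : X.Opens) (hU : IsAffineOpen U), res G hU v = res G hU w) : v = w := by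
  let P : Scheme.{u} := X ⨯ Spec (L G)
  let ι := X.affineOpens
  let W : ι → P.Opens := fun U => (chart G U.2).opensRange
  refine P.sheaf.eq_of_locally_eq' W ⊤ (fun U => homOfLE le_top) ?_ v w fun U => ?_
  · intro z _
    rw [TopologicalSpace.Opens.mem_iSup]
    obtain ⟨U, hU, hzU, -⟩ := exists_isAffineOpen_mem_and_subset (x := (prod.fst : X ⨯ Spec (L G) ⟶ X) z)
      (U := ⊤) trivial
    exact ⟨⟨U, hU⟩, exists_chart_preimage G hU z hzU⟩
  · have h1 := h U.1 U.2
    have h2 : (chart G U.2).appTop v = (chart G U.2).appTop w := by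
      refine (ConcreteCategory.bijective_of_isIso (Scheme.ΓSpecIso _).hom).1 ?_
      exact h1
    let c := chart G U.2
    have h3 : ∀ t, (c.appIso ⊤).inv.hom (c.appTop t) =
        P.presheaf.map (homOfLE (le_top : c ''ᵁ ⊤ ≤ ⊤)).op t := fun t => by
      show ((c.app ⊤) ≫ (c.appIso (c ⁻¹ᵁ ⊤)).inv).hom t = _
      rw [Scheme.Hom.app_appIso_inv]
      rfl
    have h4 := congrArg (c.appIso ⊤).inv.hom h2
    rw [h3, h3] at h4
    have e : W U = c ''ᵁ ⊤ := (Scheme.Hom.image_top_eq_opensRange c).symm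
    have h5 := congrArg (P.presheaf.map (eqToHom e).op) h4
    simp only [← ConcreteCategory.comp_apply, ← Functor.map_comp] at h5
    exact h5

theorem existsUnique_unit [IsIntegral X] [TwoUniqueSums G] (v : Γ(X ⨯ Spec (L G), ⊤)) (hv : IsUnit v) :
    ∃! p : (Γ(X, ⊤))ˣ × G,
      v = (prod.fst : X ⨯ Spec (L G) ⟶ X).appTop (p.1 : Γ(X, ⊤)) *
        (prod.snd : X ⨯ Spec (L G) ⟶ Spec (L G)).appTop
          ((Scheme.ΓSpecIso (L G)).inv (ULift.up (AddMonoidAlgebra.single p.2 1))) := by
  classical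
  have hres : ∀ (p : (Γ(X, ⊤))ˣ × G) (U : X.Opens) (hU : IsAffineOpen U),
      res G hU ((prod.fst : X ⨯ Spec (L G) ⟶ X).appTop (p.1 : Γ(X, ⊤)) *
        (prod.snd : X ⨯ Spec (L G) ⟶ Spec (L G)).appTop
          ((Scheme.ΓSpecIso (L G)).inv (ULift.up (AddMonoidAlgebra.single p.2 1)))) =
        AddMonoidAlgebra.single p.2 ((X.presheaf.map (homOfLE (le_top : U ≤ ⊤)).op).hom p.1) := by
    intro p U hU
    rw [map_mul, res_fst, res_snd, AddMonoidAlgebra.single_mul_single, zero_add, mul_one]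
  let J := {U : X.affineOpens // (U.1 : Set X).Nonempty}
  have hne : ∀ U : J, Nonempty U.1.1 := fun U => U.2.to_subtype
  have hchoice : ∀ U : J, ∃ (e : G) (r : Γ(X, U.1.1)), IsUnit r ∧
      res G U.1.2 v = AddMonoidAlgebra.single e r := fun U => by
    haveI := hne U
    exact exists_single_of_isUnit (hv.map (res G U.1.2))
  choose e r hr he using hchoice
  have hcompat : ∀ (U : J) (W : X.Opens) (hW : IsAffineOpen W) (hWne : (W : Set X).Nonempty)
      (h : W ≤ U.1.1), e U = e ⟨⟨W, hW⟩, hWne⟩ ∧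
        (X.presheaf.map (homOfLE h).op).hom (r U) = r ⟨⟨W, hW⟩, hWne⟩ := by
    intro U W hW hWne h
    haveI := hne U
    haveI : Nonempty W := hWne.to_subtype
    have h1 := res_mono G U.1.2 hW h v
    rw [he U, he ⟨⟨W, hW⟩, hWne⟩, AddMonoidAlgebra.mapRingHom_single] at h1
    have h2 := congrArg AddMonoidAlgebra.coeff h1
    rw [AddMonoidAlgebra.coeff_single, AddMonoidAlgebra.coeff_single, Finsupp.single_eq_single_iff] at h2
    rcases h2 with ⟨a, b⟩ | ⟨a, -⟩
    · exact ⟨a.symm, b.symm⟩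
    · exact absurd a (hr ⟨⟨W, hW⟩, hWne⟩).ne_zero
  have hmeet : ∀ U V : J, ∃ (W : X.Opens) (hW : IsAffineOpen W) (_ : (W : Set X).Nonempty),
      W ≤ U.1.1 ∧ W ≤ V.1.1 := by
    intro U V
    obtain ⟨z, hz⟩ := nonempty_preirreducible_inter U.1.1.2 V.1.1.2 U.2 V.2
    obtain ⟨W, hW, hzW, hWUV⟩ := exists_isAffineOpen_mem_and_subset (x := z) (U := U.1.1 ⊓ V.1.1) hz
    exact ⟨W, hW, ⟨z, hzW⟩, le_trans hWUV inf_le_left, le_trans hWUV inf_le_right⟩
  obtain ⟨x₀⟩ : Nonempty X := inferInstance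
  obtain ⟨U₀, hU₀, hx₀, -⟩ := exists_isAffineOpen_mem_and_subset (x := x₀) (U := ⊤) trivial
  let i₀ : J := ⟨⟨U₀, hU₀⟩, ⟨x₀, hx₀⟩⟩
  have hconst : ∀ U : J, e U = e i₀ := by
    intro U
    obtain ⟨W, hW, hWne, h1, h2⟩ := hmeet U i₀
    exact (hcompat U W hW hWne h1).1.trans (hcompat i₀ W hW hWne h2).1.symm
  have hgl : ∀ U V : J, (X.presheaf.map (homOfLE (inf_le_left : U.1.1 ⊓ V.1.1 ≤ U.1.1)).op).hom (r U) =
      (X.presheaf.map (homOfLE (inf_le_right : U.1.1 ⊓ V.1.1 ≤ V.1.1)).op).hom (r V) := by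
    intro U V
    obtain ⟨z, hz⟩ := nonempty_preirreducible_inter U.1.1.2 V.1.1.2 U.2 V.2
    obtain ⟨W, hW, hzW, hWUV⟩ := exists_isAffineOpen_mem_and_subset (x := z) (U := U.1.1 ⊓ V.1.1) hz
    haveI : Nonempty W := ⟨⟨z, hzW⟩⟩
    refine map_injective_of_isIntegral X (homOfLE hWUV) ?_
    simp only [← ConcreteCategory.comp_apply, ← Functor.map_comp]
    exact (hcompat U W hW ⟨z, hzW⟩ (le_trans hWUV inf_le_left)).2.trans
      (hcompat V W hW ⟨z, hzW⟩ (le_trans hWUV inf_le_right)).2.symm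
  have hcov : (⊤ : X.Opens) ≤ ⨆ U : J, U.1.1 := by
    intro z _
    rw [TopologicalSpace.Opens.mem_iSup]
    obtain ⟨W, hW, hzW, -⟩ := exists_isAffineOpen_mem_and_subset (x := z) (U := ⊤) trivial
    exact ⟨⟨⟨W, hW⟩, ⟨z, hzW⟩⟩, hzW⟩
  obtain ⟨w, hw, -⟩ := X.sheaf.existsUnique_gluing' (fun U : J => U.1.1) ⊤ (fun U => homOfLE le_top) hcov
    r hgl
  have hwu : IsUnit w := by
    refine X.toLocallyRingedSpace.toRingedSpace.isUnit_of_isUnit_germ ⊤ w fun z hz => ?_
    obtain ⟨W, hW, hzW, -⟩ := exists_isAffineOpen_mem_and_subset (x := z) (U := ⊤) trivial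
    let U : J := ⟨⟨W, hW⟩, ⟨z, hzW⟩⟩
    have h1 := (hr U).map (X.presheaf.germ W z hzW).hom
    rw [← show (X.presheaf.map (homOfLE (le_top : W ≤ ⊤)).op) w = r U from hw U] at h1
    change IsUnit ((X.presheaf.germ W z hzW) ((X.presheaf.map (homOfLE (le_top : W ≤ ⊤)).op) w)) at h1
    rw [TopCat.Presheaf.germ_res_apply] at h1
    exact h1
  refine ⟨(hwu.unit, e i₀), eq_of_res G fun U hU => ?_, fun p hp => ?_⟩
  · rw [hres]
    by_cases hUne : (U : Set X).Nonempty
    · refine (he ⟨⟨U, hU⟩, hUne⟩).trans ?_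
      rw [hconst]
      congr 1
      exact (hw ⟨⟨U, hU⟩, hUne⟩).symm
    · have hbot : U = ⊥ := TopologicalSpace.Opens.ext (Set.not_nonempty_iff_eq_empty.mp hUne)
      subst hbot
      haveI : Subsingleton Γ(X, ⊥) := CommRingCat.subsingleton_of_isTerminal X.sheaf.isTerminalOfEmpty
      exact AddMonoidAlgebra.coeff_injective (Finsupp.ext fun _ => Subsingleton.elim _ _)
  · haveI : Nonempty U₀ := ⟨⟨x₀, hx₀⟩⟩
    have h1 : AddMonoidAlgebra.single (e i₀) (r i₀) =
        AddMonoidAlgebra.single p.2 ((X.presheaf.map (homOfLE (le_top : U₀ ≤ ⊤)).op).hom p.1) := by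
      rw [← he i₀, hp, hres]
    have h2 := congrArg AddMonoidAlgebra.coeff h1
    rw [AddMonoidAlgebra.coeff_single, AddMonoidAlgebra.coeff_single, Finsupp.single_eq_single_iff] at h2
    rcases h2 with ⟨a, b⟩ | ⟨a, -⟩
    · refine Prod.ext (Units.ext (map_injective_of_isIntegral X (homOfLE (le_top : U₀ ≤ ⊤)) ?_)) a.symm
      exact b.symm.trans (hw i₀).symm
    · exact absurd a (hr i₀).ne_zero

end

end Groth.Agent.TorusUnits
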